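import Cfsg.Agent.Char.Kernel
import Cfsg.Agent.Char.InvolutionCount
import Cfsg.Agent.Linear.Classes
import Cfsg.Prelude.Def_DegreeGraph
import Mathlib

/-!
# Degree sets along isomorphisms and quotients
-/

set_option autoImplicit false
set_option linter.unusedSectionVars false

namespace Cfsg.Agent.SL2Char

open Cfsg

theorem charDegrees_congr {S : Type*} [Group S] [Finite S] {T : Type*} [Group T] [Finite T] (e : S ≃* T) :
    charDegrees S = charDegrees T := by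
  ext d
  constructor
  · rintro ⟨χ, rfl⟩
    refine ⟨⟨_, Char.isIrrCharacter_comp_mulEquiv χ.2 e.symm⟩, ?_⟩
    unfold charDegree
    simp
  · rintro ⟨χ, rfl⟩
    refine ⟨⟨_, Char.isIrrCharacter_comp_mulEquiv χ.2 e⟩, ?_⟩
    unfold charDegree
    simp

theorem charDegrees_quotient {S : Type*} [Group S] [Finite S] (N : Subgroup S) [N.Normal] :
    charDegrees (S ⧸ N) = {d | ∃ χ : IrrCharacter S,
      (∀ n ∈ N, (χ : S → ℂ) n = (χ : S → ℂ) 1) ∧ charDegree (χ : S → ℂ) = d} := by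
  ext d
  constructor
  · rintro ⟨ψ, rfl⟩
    refine ⟨(Char.irrEquivQuotient N ψ).1, (Char.irrEquivQuotient N ψ).2, ?_⟩
    unfold charDegree
    rw [Char.irrEquivQuotient_apply]
    rfl
  · rintro ⟨χ, hχ, rfl⟩
    refine ⟨(Char.irrEquivQuotient N).symm ⟨χ, hχ⟩, ?_⟩
    have h := Char.irrEquivQuotient_apply N ((Char.irrEquivQuotient N).symm ⟨χ, hχ⟩) 1
    rw [Equiv.apply_symm_apply] at h
    unfold charDegree
    rw [h]
    rfl

/-- A product of two distinct primes divides no power of a prime. -/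
theorem not_mul_dvd_pow {t k r s : ℕ} (ht : t.Prime) (hr : r.Prime) (hs : s.Prime) (hrs : r ≠ s) :
    ¬ r * s ∣ t ^ k := fun h =>
  hrs (((Nat.prime_dvd_prime_iff_eq hr ht).1 (hr.dvd_of_dvd_pow ((Dvd.intro s rfl).trans h))).trans
    ((Nat.prime_dvd_prime_iff_eq hs ht).1 (hs.dvd_of_dvd_pow ((Dvd.intro_left r rfl).trans h))).symm)

theorem mul_dvd_of_primes {r s n : ℕ} (hr : r.Prime) (hs : s.Prime) (hrs : r ≠ s) (h1 : r ∣ n)
    (h2 : s ∣ n) : r * s ∣ n :=
  Nat.Coprime.mul_dvd_of_dvd_of_dvd ((Nat.coprime_primes hr hs).2 hrs) h1 h2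

theorem sq_sub_one_eq (n : ℕ) : n ^ 2 - 1 = (n + 1) * (n - 1) := by
  rw [← Nat.sq_sub_sq n 1, one_pow]

theorem prime_dvd_list {r n : ℕ} (hr : r.Prime) :
    r ∣ n * (n ^ 2 - 1) ↔ r ∣ n ∨ r ∣ n + 1 ∨ r ∣ n - 1 := by
  rw [sq_sub_one_eq, hr.dvd_mul, hr.dvd_mul]

/-- The graph of a degree set `{1, q-1, q, q+1}` for an even `q`. -/
theorem graph_even {S : Type*} [Group S] {t k q : ℕ} (ht : t.Prime) (hq : q = t ^ k)
    (hd : charDegrees S = {1, q - 1, q, q + 1}) :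
    degreePrimes S = {r : ℕ | r.Prime ∧ r ∣ q * (q ^ 2 - 1)} ∧
      ∀ r s : ℕ, (degreeGraph S).Adj r s ↔ (r ≠ s ∧ r.Prime ∧ s.Prime ∧
        ((r ∣ q + 1 ∧ s ∣ q + 1) ∨ (r ∣ q - 1 ∧ s ∣ q - 1))) := by
  refine ⟨?_, fun r s => ?_⟩
  · ext r
    simp only [degreePrimes, Set.mem_ofPred_eq, hd, Set.mem_insert_iff, Set.mem_singleton_iff]
    refine and_congr_right fun hr => ?_
    rw [prime_dvd_list hr]
    constructor
    · rintro ⟨d, (rfl | rfl | rfl | rfl), hrd⟩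
      · exact absurd hrd hr.not_dvd_one
      · exact Or.inr (Or.inr hrd)
      · exact Or.inl hrd
      · exact Or.inr (Or.inl hrd)
    · rintro (h | h | h)
      · exact ⟨q, by simp, h⟩
      · exact ⟨q + 1, by simp, h⟩
      · exact ⟨q - 1, by simp, h⟩
  · show (r ≠ s ∧ r.Prime ∧ s.Prime ∧ ∃ d ∈ charDegrees S, r * s ∣ d) ↔ _
    rw [hd]
    refine and_congr_right fun hrs => and_congr_right fun hr => and_congr_right fun hs => ?_
    simp only [Set.mem_insert_iff, Set.mem_singleton_iff]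
    constructor
    · rintro ⟨d, (rfl | rfl | rfl | rfl), h⟩
      · exact absurd ((Dvd.intro s rfl).trans h) hr.not_dvd_one
      · exact Or.inr ⟨(Dvd.intro s rfl).trans h, (Dvd.intro_left r rfl).trans h⟩
      · exact absurd (hq ▸ h) (not_mul_dvd_pow ht hr hs hrs)
      · exact Or.inl ⟨(Dvd.intro s rfl).trans h, (Dvd.intro_left r rfl).trans h⟩
    · rintro (⟨h1, h2⟩ | ⟨h1, h2⟩)
      · exact ⟨q + 1, by simp, mul_dvd_of_primes hr hs hrs h1 h2⟩
      · exact ⟨q - 1, by simp, mul_dvd_of_primes hr hs hrs h1 h2⟩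

end Cfsg.Agent.SL2Char
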