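import Cfsg.Agent.SL2Char.OddDegrees
import Cfsg.Agent.SL2Char.Transfer

/-!
# The characters of `SL(2, q)`, `q` odd, trivial at the central involution; degrees of `PSL(2, q)`
-/

set_option autoImplicit false
set_option linter.unusedSectionVars false

namespace Cfsg.Agent.SL2Char

open Cfsg
open Cfsg.Agent.CentralExt.SL2 (upper)
open scoped MatrixGroups

variable {F : Type*} [Field F] [Fintype F] {ν : F}

local notation "G" => SL(2, F)
local notation "q" => Fintype.card F
local notation "M2" => Matrix (Fin 2) (Fin 2) F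

variable (F) in
/-- The central involution. -/
def negId : G := ⟨!![-1, 0; 0, -1], by simp [Matrix.det_fin_two_of]⟩

theorem negId_center : negId F ∈ Subgroup.center G := by
  rw [Linear.Classes.mem_center_iff_scalar]
  intro h
  refine h (-1) ?_
  ext i j
  fin_cases i <;> fin_cases j <;> simp [negId]

theorem negId_sq : negId F ^ 2 = (1 : G) := by
  apply Subtype.ext
  rw [pow_two, Matrix.SpecialLinearGroup.coe_mul]
  simp [negId, Matrix.mul_fin_two, Matrix.one_fin_two]

theorem exists_sign (χ : IrrCharacter G) :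
    ∃ ω : ℤ, (ω = 1 ∨ ω = -1) ∧ ∀ g : G, (χ : G → ℂ) (negId F * g) = (ω : ℂ) * (χ : G → ℂ) g := by
  obtain ⟨ω, hω, -, hall⟩ := Char.irr_mul_center χ.2 (negId_center (F := F))
  obtain ⟨k, hk⟩ := orderOf_dvd_of_pow_eq_one (negId_sq (F := F))
  have h2 : ω ^ 2 = 1 := by rw [hk, pow_mul, hω, one_pow]
  rcases sq_eq_one_iff.1 h2 with rfl | rfl
  · exact ⟨1, Or.inl rfl, fun g => by simpa using hall g⟩
  · exact ⟨-1, Or.inr rfl, fun g => by simpa using hall g⟩

/-- The sign at the central involution. -/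
noncomputable def sign (χ : IrrCharacter G) : ℤ := (exists_sign χ).choose

theorem sign_cases (χ : IrrCharacter G) : sign χ = 1 ∨ sign χ = -1 :=
  (exists_sign χ).choose_spec.1

theorem sign_spec (χ : IrrCharacter G) (g : G) :
    (χ : G → ℂ) (negId F * g) = (sign χ : ℂ) * (χ : G → ℂ) g :=
  (exists_sign χ).choose_spec.2 g

theorem sign_chiOne : sign (chiOne F) = 1 := by
  have h := sign_spec (chiOne F) 1
  simp only [chiOne, mul_one] at h
  exact_mod_cast h.symm

theorem sign_chiSt : sign (chiSt F) = 1 := by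
  classical
  have h := sign_spec (chiSt F) 1
  simp only [chiSt, st, mul_one, Pi.sub_apply, ps_one] at h
  rw [ps_apply_scalar_upper (1 : MulChar F ℂ) (g := negId F) (e := -1) (x := 0) rfl, if_pos rfl,
    MulChar.one_apply (isUnit_one.neg), one_mul, add_sub_cancel_right] at h
  have hq : (q : ℂ) ≠ 0 := by simp
  have h' : (sign (chiSt F) : ℂ) = 1 := by
    rw [eq_comm, mul_eq_right₀ hq] at h
    exact h
  exact_mod_cast h'

theorem twisted (hν : ¬ IsSquare ν) (c d : F) :
    ∑ χ : IrrCharacter G, sign χ * ((mult χ c * mult χ d : ℕ) : ℤ) = 0 := by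
  classical
  refine sum_sign_mult_mul negId_center (fun x y hc => ?_) sign sign_spec c d
  have h := Linear.Classes.trace_eq_of_isConj hc
  rw [Matrix.SpecialLinearGroup.coe_mul] at h
  simp [negId, upper, Matrix.trace_fin_two] at h
  have h4 : (2 : F) * 2 = 0 := by linear_combination -h
  exact two_ne_zero_of_nonsquare hν (mul_self_eq_zero.1 h4)

/-- The needed characters trivial at the central involution. -/
theorem exists_trivial_sign (hν : ¬ IsSquare ν) (h5 : 5 < q) :
    (∃ χ : IrrCharacter G, sign χ = 1 ∧ charDegree (χ : G → ℂ) = q + 1) ∧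
      ∃ χ : IrrCharacter G, sign χ = 1 ∧ charDegree (χ : G → ℂ) = q - 1 := by
  classical
  obtain ⟨H, D, W, hH, hD, hW, kH, kD, kW, hall⟩ := odd_classification hν
  have hP := card_psSet_odd hν
  have hsplit : ∀ (f : IrrCharacter G → ℤ) (A : Finset (IrrCharacter G)), A ⊆ rest F →
      (∀ χ, χ ∈ H ∨ χ ∈ D ∨ χ ∈ W → χ ∉ A → f χ = 0) →
      ∑ χ ∈ rest F, f χ = ∑ χ ∈ A, f χ := by
    intro f A hA hf
    refine (Finset.sum_subset hA fun χ hχ hn => hf χ ?_ hn).symm
    obtain ⟨h1, h2, h3⟩ := mem_rest.1 hχ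
    have := hall χ
    tauto
  have e00 : 2 + 4 * (∑ χ ∈ psSet F, sign χ) + ∑ χ ∈ H, sign χ = 0 := by
    have h := twisted hν (0 : F) 0
    rw [sum_split, sign_chiOne, sign_chiSt, mult_chiOne, mult_chiSt, if_pos rfl,
      Finset.sum_congr rfl (g := fun χ => 4 * sign χ) (fun χ hχ => by
        rw [mult_psSet hχ, if_pos rfl]; push_cast; ring),
      hsplit _ H (fun χ hχ => (kH χ hχ).1) (fun χ hχ hn => by
        rcases hχ with e | e | e
        · exact absurd e hn
        · rw [(kD χ e).2.1]; simp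
        · rw [(kW χ e).2.1]; simp),
      Finset.sum_congr (s₁ := H) rfl (g := fun χ => sign χ) (fun χ hχ => by
        rw [(kH χ hχ).2.1]; simp),
      ← Finset.mul_sum] at h
    push_cast at h
    linarith
  have eAB : 1 + ∑ χ ∈ psSet F, sign χ + ∑ χ ∈ W, sign χ = 0 := by
    have h := twisted hν (1 : F) ν
    rw [sum_split, sign_chiOne, sign_chiSt, mult_chiOne, mult_chiOne, mult_chiSt, mult_chiSt,
      if_neg one_ne_zero,
      Finset.sum_congr rfl (g := fun χ => sign χ) (fun χ hχ => by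
        rw [mult_psSet hχ, mult_psSet hχ, if_neg one_ne_zero, if_neg (ne_zero_of_nonsquare hν)]
        simp),
      hsplit _ W (fun χ hχ => (kW χ hχ).1) (fun χ hχ hn => by
        rcases hχ with e | e | e
        · rw [(kH χ e).2.2.1]; simp
        · rw [(kD χ e).2.2.1]; simp
        · exact absurd e hn),
      Finset.sum_congr (s₁ := W) rfl (g := fun χ => sign χ) (fun χ hχ => by
        rw [(kW χ hχ).2.2.1]; simp)] at h
    push_cast at h
    linarith
  have hHb : -2 ≤ ∑ χ ∈ H, sign χ ∧ ∑ χ ∈ H, sign χ ≤ 2 := by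
    obtain ⟨a, b, hab, rfl⟩ := Finset.card_eq_two.1 hH
    rw [Finset.sum_pair hab]
    rcases sign_cases a with ha | ha <;> rcases sign_cases b with hb | hb <;> omega
  constructor
  · by_contra hcon
    have h : ∀ χ ∈ psSet F, sign χ = -1 := fun χ hχ => (sign_cases χ).resolve_left fun h =>
      hcon ⟨χ, h, charDegree_psSet_odd hν hχ⟩
    rw [Finset.sum_congr rfl h, Finset.sum_const, nsmul_eq_mul] at e00
    omega
  · by_contra hcon
    have h : ∀ χ ∈ W, sign χ = -1 := fun χ hχ => (sign_cases χ).resolve_left fun h =>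
      hcon ⟨χ, h, (kW χ hχ).2.2.2⟩
    rw [Finset.sum_congr rfl h, Finset.sum_const, nsmul_eq_mul] at eAB
    omega

/-- Bounds for the degrees, and the degrees present for both groups. -/
theorem degree_set_facts (hν : ¬ IsSquare ν) (h5 : 5 < q) {S : Type*} [Group S] [Finite S]
    (hS : Nonempty (S ≃* Matrix.ProjectiveSpecialLinearGroup (Fin 2) F) ∨
      Nonempty (S ≃* Matrix.SpecialLinearGroup (Fin 2) F)) :
    (∀ d ∈ charDegrees S, d = q ∨ d ∣ q + 1 ∨ d ∣ q - 1) ∧
      q ∈ charDegrees S ∧ q + 1 ∈ charDegrees S ∧ q - 1 ∈ charDegrees S := by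
  classical
  obtain ⟨H, D, W, -, -, -, kH, kD, kW, hall⟩ := odd_classification hν
  have hoddq := Nat.odd_iff.1 (odd_card_of_nonsquare hν)
  have hsub : ∀ d ∈ charDegrees G, d = q ∨ d ∣ q + 1 ∨ d ∣ q - 1 := by
    rintro d ⟨χ, rfl⟩
    rcases hall χ with e | e | e | e | e | e
    · rw [e, charDegree_chiOne_odd hν]; exact Or.inr (Or.inl (one_dvd _))
    · rw [e, charDegree_chiSt_odd hν]; exact Or.inl rfl
    · rw [charDegree_psSet_odd hν e]; exact Or.inr (Or.inl dvd_rfl)
    · exact Or.inr (Or.inl ⟨2, by rw [mul_comm]; exact (kH χ e).2.2.2.symm⟩)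
    · exact Or.inr (Or.inr ⟨2, by rw [mul_comm]; exact (kD χ e).2.2.2.symm⟩)
    · rw [(kW χ e).2.2.2]; exact Or.inr (Or.inr dvd_rfl)
  obtain ⟨⟨χ, hχ, hχd⟩, ⟨φ, hφ, hφd⟩⟩ := exists_trivial_sign hν h5
  rcases hS with ⟨⟨e⟩⟩ | ⟨⟨e⟩⟩
  · have hP : charDegrees S = {d | ∃ χ : IrrCharacter G,
        (∀ n ∈ Subgroup.center G, (χ : G → ℂ) n = (χ : G → ℂ) 1) ∧
          charDegree (χ : G → ℂ) = d} := by
      rw [charDegrees_congr e]
      exact charDegrees_quotient _
    have htriv : ∀ χ : IrrCharacter G, sign χ = 1 →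
        ∀ n ∈ Subgroup.center G, (χ : G → ℂ) n = (χ : G → ℂ) 1 := by
      intro χ hχ n hn
      obtain ⟨c, hc, hnc⟩ := Linear.Classes.scalar_SL (Linear.Classes.mem_center_iff_scalar.1 hn)
      rcases sq_eq_one_iff.1 hc with rfl | rfl
      · have : n = 1 := Subtype.ext (by rw [hnc, one_smul, Matrix.SpecialLinearGroup.coe_one])
        rw [this]
      · have : n = negId F * 1 := by
          apply Subtype.ext
          rw [mul_one, hnc]
          ext i j
          fin_cases i <;> fin_cases j <;> simp [negId]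
        rw [this, sign_spec, hχ, Int.cast_one, one_mul]
    rw [hP]
    refine ⟨fun d ⟨χ, _, hd⟩ => hsub d ⟨χ, hd⟩, ?_, ?_, ?_⟩
    · exact ⟨_, htriv _ sign_chiSt, charDegree_chiSt_odd hν⟩
    · exact ⟨χ, htriv χ hχ, hχd⟩
    · exact ⟨φ, htriv φ hφ, hφd⟩
  · rw [charDegrees_congr e]
    exact ⟨hsub, ⟨_, charDegree_chiSt_odd hν⟩, ⟨χ, hχd⟩, ⟨φ, hφd⟩⟩

end Cfsg.Agent.SL2Char
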