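import Cfsg.Agent.SL2Char.Family
import Cfsg.Agent.S2331

/-!
# The character degrees of `SL(2, q)`, `q` even
-/

set_option autoImplicit false
set_option linter.unusedSectionVars false

namespace Cfsg.Agent.SL2Char

open Cfsg
open scoped MatrixGroups

variable {F : Type*} [Field F] [Fintype F] [CharP F 2]

local notation "G" => SL(2, F)
local notation "q" => Fintype.card F

theorem exists_sq_mul (c : F) (hc : c ≠ 0) : ∃ t : Fˣ, (t : F) ^ 2 * 1 = c := by
  obtain ⟨r, hr⟩ := FiniteField.isSquare_of_char_two (ringChar.eq F 2) c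
  have hr0 : r ≠ 0 := fun h => hc (by rw [hr, h, mul_zero])
  exact ⟨Units.mk0 r hr0, by rw [hr]; simp [sq]⟩

theorem mult_even (χ : IrrCharacter G) {c : F} (hc : c ≠ 0) : mult χ c = mult χ 1 := by
  obtain ⟨t, rfl⟩ := exists_sq_mul c hc
  exact mult_sq_mul χ t 1

theorem charDegree_even (χ : IrrCharacter G) :
    charDegree (χ : G → ℂ) = mult χ 0 + (q - 1) * mult χ 1 := by
  classical
  rw [← sum_mult, ← Finset.add_sum_erase _ _ (Finset.mem_univ (0 : F)),
    Finset.sum_congr rfl fun c hc => mult_even χ (Finset.ne_of_mem_erase hc), Finset.sum_const,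
    Finset.card_erase_of_mem (Finset.mem_univ _), Finset.card_univ, smul_eq_mul]

theorem card_self_inv_even : Nat.card {α : MulChar F ℂ // α = α⁻¹} = 1 := by
  haveI : Subsingleton {α : MulChar F ℂ // α = α⁻¹} := by
    have key : ∀ α : MulChar F ℂ, α = α⁻¹ → α = 1 := fun α hα => by
      refine MulChar.ext fun a => ?_
      obtain ⟨r, hr⟩ := exists_sq_mul (a : F) a.ne_zero
      rw [mul_one] at hr
      rw [MulChar.one_apply_coe, ← hr, map_pow, sq]
      calc α r * α r = (α⁻¹ * α) r := by rw [MulChar.mul_apply, ← hα]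
        _ = 1 := by rw [inv_mul_cancel, MulChar.one_apply_coe]
    exact ⟨fun a b => Subtype.ext ((key _ a.2).trans (key _ b.2).symm)⟩
  haveI : Nonempty {α : MulChar F ℂ // α = α⁻¹} := ⟨⟨1, inv_one.symm⟩⟩
  exact Nat.card_unique

/-- The multiplicities of the remaining characters. -/
theorem even_data :
    2 * (psSet F).card + 2 = q ∧ 2 * (rest F).card = q ∧
      ∀ χ ∈ rest F, mult χ 0 = 0 ∧ mult χ 1 = 1 := by
  classical
  have hP := card_psSet (F := F)
  rw [card_self_inv_even] at hP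
  have hk := card_rest (F := F)
  rw [S2331.result] at hk
  have hR : 2 * (rest F).card = q := by omega
  have hN0 : Nat.card {t : Fˣ // (0 : F) * (t : F) ^ 2 = 0} = q - 1 := by
    rw [Nat.card_congr (Equiv.subtypeUnivEquiv fun t => by simp), Nat.card_units,
      Nat.card_eq_fintype_card]
  have hN1 : Nat.card {t : Fˣ // (1 : F) * (t : F) ^ 2 = 1} = 1 := by
    rw [← Linear.Classes.card_sq_one_even (F := F) CharTwo.two_eq_zero]
    refine Nat.card_congr ⟨fun t => ⟨(t.1 : F), by simpa using t.2⟩, fun e => ⟨Units.mk0 e.1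
      (fun h => by have := e.2; rw [h] at this; simp at this), by simpa using e.2⟩,
      fun t => Subtype.ext (Units.ext rfl), fun e => rfl⟩
  have h0 := sum_mult_mul (F := F) 0 0
  have h1 := sum_mult_mul (F := F) 1 1
  rw [sum_split, mult_chiOne, mult_chiSt, Finset.sum_congr rfl (g := fun _ => 4) (fun χ hχ => by
    rw [mult_psSet hχ, if_pos rfl]), Finset.sum_const, smul_eq_mul, if_pos rfl, hN0] at h0
  rw [sum_split, mult_chiOne, mult_chiSt, Finset.sum_congr rfl (g := fun _ => 1) (fun χ hχ => by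
    rw [mult_psSet hχ, if_neg one_ne_zero]), Finset.sum_const, smul_eq_mul,
    if_neg one_ne_zero, hN1] at h1
  have hz : ∑ χ ∈ rest F, mult χ 0 * mult χ 0 = 0 := by
    obtain ⟨A, hA⟩ : ∃ A, ∑ χ ∈ rest F, mult χ 0 * mult χ 0 = A := ⟨_, rfl⟩
    rw [hA] at h0 ⊢
    push_cast at h0
    omega
  have hone : ∑ χ ∈ rest F, mult χ 1 * mult χ 1 = (rest F).card := by
    obtain ⟨A, hA⟩ : ∃ A, ∑ χ ∈ rest F, mult χ 1 * mult χ 1 = A := ⟨_, rfl⟩
    rw [hA] at h1 ⊢
    push_cast at h1
    omega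
  have hA0 : ∀ χ ∈ rest F, mult χ 0 = 0 := fun χ hχ =>
    mul_self_eq_zero.1 (Finset.sum_eq_zero_iff.1 hz χ hχ)
  have hA1 : ∀ χ ∈ rest F, 1 ≤ mult χ 1 * mult χ 1 := by
    intro χ hχ
    refine Nat.one_le_iff_ne_zero.2 fun h => ?_
    obtain ⟨n, hn, hn'⟩ := Char.irr_one_pos χ.2
    have := charDegree_even χ
    rw [hA0 χ hχ, mul_self_eq_zero.1 h, mul_zero, Char.charDegree_of_eq hn'] at this
    omega
  refine ⟨by omega, hR, fun χ hχ => ⟨hA0 χ hχ, ?_⟩⟩
  rw [Finset.card_eq_sum_ones] at hone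
  have := (Finset.sum_eq_sum_iff_of_le hA1).1 hone.symm χ hχ
  exact (mul_eq_one.1 this.symm).1

theorem charDegree_chiOne_even : charDegree ((chiOne F : IrrCharacter G) : G → ℂ) = 1 := by
  classical
  rw [charDegree_even, mult_chiOne, mult_chiOne, if_pos rfl, if_neg one_ne_zero, mul_zero, add_zero]

theorem charDegree_chiSt_even : charDegree ((chiSt F : IrrCharacter G) : G → ℂ) = q := by
  rw [charDegree_even, mult_chiSt, mult_chiSt, mul_one]
  have hq : 1 ≤ q := Fintype.card_pos
  omega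

theorem charDegree_psSet_even {χ : IrrCharacter G} (h : χ ∈ psSet F) :
    charDegree (χ : G → ℂ) = q + 1 := by
  classical
  rw [charDegree_even, mult_psSet h, mult_psSet h, if_pos rfl, if_neg one_ne_zero, mul_one]
  have hq : 1 ≤ q := Fintype.card_pos
  omega

theorem charDegree_rest_even {χ : IrrCharacter G} (h : χ ∈ rest F) :
    charDegree (χ : G → ℂ) = q - 1 := by
  rw [charDegree_even, (even_data.2.2 χ h).1, (even_data.2.2 χ h).2, mul_one, zero_add]

theorem cases_irr (χ : IrrCharacter G) :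
    χ = chiOne F ∨ χ = chiSt F ∨ χ ∈ psSet F ∨ χ ∈ rest F := by
  by_cases h1 : χ = chiOne F
  · exact Or.inl h1
  by_cases h2 : χ = chiSt F
  · exact Or.inr (Or.inl h2)
  by_cases h3 : χ ∈ psSet F
  · exact Or.inr (Or.inr (Or.inl h3))
  exact Or.inr (Or.inr (Or.inr (mem_rest.2 ⟨h1, h2, h3⟩)))

/-- The degree set. -/
theorem charDegrees_even (h4 : 4 ≤ q) : charDegrees G = {1, q - 1, q, q + 1} := by
  ext d
  constructor
  · rintro ⟨χ, rfl⟩
    simp only [Set.mem_insert_iff, Set.mem_singleton_iff]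
    rcases cases_irr χ with rfl | rfl | h | h
    · exact Or.inl charDegree_chiOne_even
    · exact Or.inr (Or.inr (Or.inl charDegree_chiSt_even))
    · exact Or.inr (Or.inr (Or.inr (charDegree_psSet_even h)))
    · exact Or.inr (Or.inl (charDegree_rest_even h))
  · obtain ⟨hP, hR, -⟩ := even_data (F := F)
    simp only [Set.mem_insert_iff, Set.mem_singleton_iff]
    rintro (rfl | rfl | rfl | rfl)
    · exact ⟨_, charDegree_chiOne_even⟩
    · obtain ⟨χ, hχ⟩ := Finset.card_pos.1 (show 0 < (rest F).card by omega)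
      exact ⟨χ, charDegree_rest_even hχ⟩
    · exact ⟨_, charDegree_chiSt_even⟩
    · obtain ⟨χ, hχ⟩ := Finset.card_pos.1 (show 0 < (psSet F).card by omega)
      exact ⟨χ, charDegree_psSet_even hχ⟩

end Cfsg.Agent.SL2Char
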