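import Cfsg.Agent.CentralExt.SL2
import Cfsg.Agent.Linear.Classes
import Cfsg.Agent.Char.Orthogonality
import Cfsg.Agent.Char.Kernel
import Cfsg.Agent.Char.Linear
import Cfsg.Agent.Char.Virtual
import Cfsg.Agent.Char.InvolutionCount
import Cfsg.Prelude.Def_DegreeGraph

/-!
# Fourier coefficients on the upper unitriangular subgroup of `SL(2, q)`

For a function `f` on `SL(2, q)` and `c` in the field, `coef f c` is the multiplicity in `f` of
the character `x ↦ ψ (c x)` of the unitriangular subgroup.  Column orthogonality evaluates all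
sums `∑ χ, coef χ c * coef χ d` over the irreducible characters.
-/

set_option autoImplicit false
set_option linter.unusedSectionVars false

namespace Cfsg.Agent.SL2Char

open Cfsg
open Cfsg.Agent.CentralExt.SL2 (upper upperHom diag)
open scoped MatrixGroups ComplexConjugate

variable {F : Type*} [Field F] [Fintype F]

local notation "G" => SL(2, F)
local notation "q" => Fintype.card F

variable (F) in
/-- A fixed primitive additive character. -/
noncomputable def psi : AddChar F ℂ := AddChar.FiniteField.primitiveChar_to_Complex F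

theorem sum_psi [DecidableEq F] (b : F) :
    ∑ x : F, psi F (b * x) = if b = 0 then (q : ℂ) else 0 := by
  have h := AddChar.sum_mulShift b (AddChar.FiniteField.primitiveChar_to_Complex_isPrimitive F)
  simp_rw [mul_comm b]
  rw [show (∑ x : F, psi F (x * b)) = _ from h]
  split_ifs <;> simp

theorem sum_psi_left [DecidableEq F] (b : F) :
    ∑ x : F, psi F (x * b) = if b = 0 then (q : ℂ) else 0 := by
  simp_rw [mul_comm _ b]
  exact sum_psi b

theorem conj_psi (x : F) : conj (psi F x) = psi F (-x) := by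
  rw [AddChar.starComp_apply (CharP.ringChar_ne_zero_of_finite F).bot_lt, AddChar.inv_apply]

/-- The coefficient of `f` at the character `x ↦ ψ (c x)` of the unitriangular subgroup. -/
noncomputable def coef (f : G → ℂ) (c : F) : ℂ :=
  (q : ℂ)⁻¹ * ∑ x : F, f (upper x) * psi F (-(c * x))

theorem coef_add (f f' : G → ℂ) (c : F) : coef (f + f') c = coef f c + coef f' c := by
  simp [coef, add_mul, Finset.sum_add_distrib, mul_add]

theorem coef_sub (f f' : G → ℂ) (c : F) : coef (f - f') c = coef f c - coef f' c := by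
  simp [coef, sub_mul, Finset.sum_sub_distrib, mul_sub]

theorem sum_coef (f : G → ℂ) : ∑ c : F, coef f c = f 1 := by
  classical
  simp only [coef, ← Finset.mul_sum]
  rw [Finset.sum_comm]
  have h : ∀ x : F, ∑ c : F, f (upper x) * psi F (-(c * x)) =
      if x = 0 then f (upper x) * (q : ℂ) else 0 := by
    intro x
    rw [← Finset.mul_sum]
    simp_rw [← mul_neg]
    rw [sum_psi_left]
    simp only [neg_eq_zero]
    split_ifs <;> simp
  simp only [h, Finset.sum_ite_eq', Finset.mem_univ, if_true]
  have h1 : upper (0 : F) = (1 : G) := by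
    apply Subtype.ext; simp [upper, ← Matrix.one_fin_two]
  rw [h1]
  have hq : (q : ℂ) ≠ 0 := by simp
  field_simp

/-- A function taking the value `a` at the identity and `b` elsewhere on the subgroup. -/
theorem coef_of_values [DecidableEq F] {f : G → ℂ} {a b : ℂ} (h1 : f 1 = a)
    (h : ∀ x : F, x ≠ 0 → f (upper x) = b) (c : F) :
    coef f c = (q : ℂ)⁻¹ * (a - b) + if c = 0 then b else 0 := by
  have hx : ∀ x : F, f (upper x) * psi F (-(c * x)) =
      (if x = 0 then a - b else 0) + b * psi F ((-c) * x) := by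
    intro x
    rw [neg_mul]
    split_ifs with hx
    · subst hx
      have h0 : upper (0 : F) = (1 : G) := by
        apply Subtype.ext; simp [upper, ← Matrix.one_fin_two]
      rw [h0, h1]; simp
    · rw [h x hx, zero_add]
  have hq : (q : ℂ) ≠ 0 := by simp
  simp only [coef, hx, Finset.sum_add_distrib, ← Finset.mul_sum, sum_psi, neg_eq_zero,
    Finset.sum_ite_eq', Finset.mem_univ, if_true]
  split_ifs <;> field_simp <;> ring

theorem exists_coef_nat {f : G → ℂ} (hf : IsCharacter G f) (c : F) :
    ∃ n : ℕ, coef f c = n := by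
  classical
  let l : Multiplicative F →* ℂˣ := (AddChar.toMonoidHom (psi F) |>.comp
    (MonoidHom.mk' (fun x : Multiplicative F => Multiplicative.ofAdd (c * x.toAdd))
      (fun x y => by simp [mul_add]))).toHomUnits
  obtain ⟨n, hn⟩ := Char.isCharacter_classInner_nat (Char.isCharacter_comp hf (upperHom (F := F)))
    ⟨fun g => (l g : ℂ), Char.isIrrCharacter_monoidHom l⟩
  refine ⟨n, ?_⟩
  rw [← hn, classInner, coef, Nat.card_eq_fintype_card, Fintype.card_multiplicative]
  congr 1
  refine Fintype.sum_equiv Multiplicative.ofAdd _ _ fun x => ?_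
  show _ = f (upper x) * conj (psi F (c * x))
  rw [conj_psi]

/-- The multiplicity as a natural number. -/
noncomputable def mult (χ : IrrCharacter G) (c : F) : ℕ :=
  (exists_coef_nat (Char.isCharacter_of_irr χ.2) c).choose

theorem mult_spec (χ : IrrCharacter G) (c : F) : coef (χ : G → ℂ) c = mult χ c :=
  (exists_coef_nat (Char.isCharacter_of_irr χ.2) c).choose_spec

theorem sum_mult (χ : IrrCharacter G) : ∑ c : F, mult χ c = charDegree (χ : G → ℂ) := by
  have h := sum_coef (χ : G → ℂ)
  simp only [mult_spec] at h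
  exact (Char.charDegree_of_eq (by rw [← h]; push_cast; rfl)).symm

theorem mult_sq_mul (χ : IrrCharacter G) (t : Fˣ) (c : F) :
    mult χ ((t : F) ^ 2 * c) = mult χ c := by
  apply Nat.cast_injective (R := ℂ)
  rw [← mult_spec, ← mult_spec, coef, coef]
  congr 1
  refine Fintype.sum_equiv (Equiv.mulLeft₀ ((t : F) ^ 2) (pow_ne_zero 2 t.ne_zero)) _ _ fun x => ?_
  simp only [Equiv.mulLeft₀_apply]
  rw [← CentralExt.SL2.conj_upper, Char.irr_isClassFunction χ.2,
    show (t : F) ^ 2 * c * x = c * ((t : F) ^ 2 * x) by ring]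

theorem sum_irr_mul_conj_count (g h : G) [Fintype G] [DecidableEq G] :
    ∑ χ : IrrCharacter G, (χ : G → ℂ) g * conj ((χ : G → ℂ) h) =
      (Nat.card {z : G // z * g = h * z} : ℂ) := by
  classical
  rw [Char.sum_irr_mul_conj]
  split_ifs with hc
  · obtain ⟨z₀, rfl⟩ := isConj_iff.1 hc
    rw [Nat.cast_inj]
    refine Nat.card_congr ⟨fun c => ⟨z₀ * c.1, ?_⟩, fun z => ⟨z₀⁻¹ * z.1, ?_⟩, fun c => ?_,
      fun z => ?_⟩
    · have := Subgroup.mem_centralizer_singleton_iff.1 c.2
      simp only [mul_assoc, inv_mul_cancel_left]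
      rw [this]
    · refine Subgroup.mem_centralizer_singleton_iff.2 ?_
      rw [mul_assoc, z.2]; group
    · exact Subtype.ext (inv_mul_cancel_left _ _)
    · exact Subtype.ext (mul_inv_cancel_left _ _)
  · haveI : IsEmpty {z : G // z * g = h * z} :=
      ⟨fun z => hc (isConj_iff.2 ⟨z.1, by rw [z.2, mul_inv_cancel_right]⟩)⟩
    rw [Nat.card_of_isEmpty, Nat.cast_zero]

theorem count_upper [DecidableEq F] {x : F} (hx : x ≠ 0) (y : F) :
    Nat.card {z : G // z * upper x = upper y * z} =
      q * Nat.card {t : Fˣ // (t : F) ^ 2 * x = y} := by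
  rw [← Nat.card_eq_fintype_card (α := F), ← Nat.card_prod]
  have key : ∀ z : G, z * upper x = upper y * z ↔
      (z : Matrix (Fin 2) (Fin 2) F) 1 0 = 0 ∧
        (z : Matrix (Fin 2) (Fin 2) F) 0 0 * x = y * (z : Matrix (Fin 2) (Fin 2) F) 1 1 := by
    intro z
    constructor
    · intro h
      have h01 := congrFun (congrFun (congrArg Subtype.val h) 0) 1
      have h11 := congrFun (congrFun (congrArg Subtype.val h) 1) 1
      rw [Matrix.SpecialLinearGroup.coe_mul, Matrix.SpecialLinearGroup.coe_mul] at h01 h11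
      simp [upper, Matrix.mul_apply, Fin.sum_univ_two] at h01 h11
      have h10 : (z : Matrix (Fin 2) (Fin 2) F) 1 0 = 0 := by
        rcases h11 with h | h
        · exact h
        · exact absurd h hx
      exact ⟨h10, by linear_combination h01⟩
    · rintro ⟨h10, h⟩
      apply Subtype.ext
      rw [Matrix.SpecialLinearGroup.coe_mul, Matrix.SpecialLinearGroup.coe_mul]
      ext i j
      fin_cases i <;> fin_cases j <;> simp [upper, Matrix.mul_apply, Fin.sum_univ_two, h10]
      linear_combination h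
  have hdet : ∀ z : G, (z : Matrix (Fin 2) (Fin 2) F) 1 0 = 0 →
      (z : Matrix (Fin 2) (Fin 2) F) 0 0 * (z : Matrix (Fin 2) (Fin 2) F) 1 1 = 1 := by
    intro z h
    have := z.2
    rw [Matrix.det_fin_two, h, mul_zero, sub_zero] at this
    exact this
  refine Nat.card_congr ⟨fun z => ((z.1 : Matrix (Fin 2) (Fin 2) F) 0 1,
      ⟨Units.mk0 ((z.1 : Matrix (Fin 2) (Fin 2) F) 0 0)
        (left_ne_zero_of_mul_eq_one (hdet _ ((key _).1 z.2).1)), ?_⟩),
    fun p => ⟨⟨!![(p.2.1 : F), p.1; 0, (↑p.2.1⁻¹ : F)], by simp [Matrix.det_fin_two_of]⟩,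
      (key _).2 ⟨rfl, ?_⟩⟩, fun z => ?_, fun p => ?_⟩
  · obtain ⟨h10, h⟩ := (key _).1 z.2
    have h1 := hdet _ h10
    simp only [Units.val_mk0]
    linear_combination (z.1 : Matrix (Fin 2) (Fin 2) F) 0 0 * h + y * h1
  · show (p.2.1 : F) * x = y * (↑p.2.1⁻¹ : F)
    rw [Units.val_inv_eq_inv_val, eq_mul_inv_iff_mul_eq₀ p.2.1.ne_zero]
    linear_combination p.2.2
  · obtain ⟨h10, -⟩ := (key _).1 z.2
    apply Subtype.ext; apply Subtype.ext
    ext i j
    fin_cases i <;> fin_cases j
    · rfl
    · rfl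
    · exact h10.symm
    · simpa using inv_eq_of_mul_eq_one_right (hdet _ h10)
  · exact Prod.ext rfl (Subtype.ext (Units.ext rfl))

/-- The basic identity. -/
theorem sum_mult_mul [DecidableEq F] (c d : F) :
    ((∑ χ : IrrCharacter G, mult χ c * mult χ d : ℕ) : ℤ) =
      (q : ℤ) - 1 + (Nat.card {t : Fˣ // d * (t : F) ^ 2 = c} : ℤ) := by
  classical
  letI := Fintype.ofFinite G
  suffices h : (∑ χ : IrrCharacter G, coef (χ : G → ℂ) c * conj (coef (χ : G → ℂ) d)) =
      (q : ℂ) - 1 + (Nat.card {t : Fˣ // d * (t : F) ^ 2 = c} : ℂ) by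
    simp only [mult_spec, map_natCast] at h
    exact_mod_cast h
  have hexp : ∀ χ : IrrCharacter G, coef (χ : G → ℂ) c * conj (coef (χ : G → ℂ) d) =
      (q : ℂ)⁻¹ * (q : ℂ)⁻¹ * ∑ x : F, ∑ y : F,
        psi F (-(c * x)) * psi F (d * y) * ((χ : G → ℂ) (upper x) * conj ((χ : G → ℂ) (upper y))) := by
    intro χ
    simp only [coef, map_mul, map_sum, map_inv₀, map_natCast, conj_psi, neg_neg]
    rw [mul_mul_mul_comm, Finset.sum_mul_sum]
    congr 1
    refine Finset.sum_congr rfl fun x _ => Finset.sum_congr rfl fun y _ => ?_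
    ring
  simp only [hexp, ← Finset.mul_sum]
  rw [Finset.sum_comm]
  simp_rw [Finset.sum_comm (s := (Finset.univ : Finset (IrrCharacter G))), ← Finset.mul_sum,
    sum_irr_mul_conj_count]
  have hx : ∀ x : F, ∑ y : F, psi F (-(c * x)) * psi F (d * y) *
        (Nat.card {z : G // z * upper x = upper y * z} : ℂ) =
      (if x = 0 then (Nat.card G : ℂ) - (q : ℂ) * (Nat.card Fˣ : ℂ) else 0) +
        (q : ℂ) * ∑ t : Fˣ, psi F ((d * (t : F) ^ 2 - c) * x) := by
    intro x
    by_cases hx : x = 0
    · subst hx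
      rw [if_pos rfl]
      have h0 : upper (0 : F) = (1 : G) := by
        apply Subtype.ext; simp [upper, ← Matrix.one_fin_two]
      rw [Finset.sum_eq_single (0 : F)]
      · simp [h0, Nat.card_eq_fintype_card, Fintype.card_congr (Equiv.subtypeUnivEquiv
          (p := fun _ : G => True) fun _ => trivial)]
      · intro y _ hy
        haveI : IsEmpty {z : G // z * upper (0 : F) = upper y * z} := ⟨fun z => by
          have h : z.1 * 1 = upper y * z.1 := by simpa only [h0] using z.2
          rw [mul_one, eq_comm, mul_eq_right] at h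
          have := congrFun (congrFun (congrArg Subtype.val h) 0) 1
          exact hy (by simpa [upper] using this)⟩
        simp
      · simp
    · rw [if_neg hx, zero_add]
      simp_rw [count_upper hx, Nat.card_eq_fintype_card, Fintype.card_subtype, Nat.cast_mul,
        Finset.natCast_card_filter, Finset.mul_sum]
      rw [Finset.sum_comm]
      refine Finset.sum_congr rfl fun t _ => ?_
      rw [Finset.sum_eq_single ((t : F) ^ 2 * x) (fun y _ hy => by rw [if_neg (Ne.symm hy)]; simp)
        (by simp), if_pos rfl, mul_one, ← AddChar.map_add_eq_mul,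
        show -(c * x) + d * ((t : F) ^ 2 * x) = (d * (t : F) ^ 2 - c) * x by ring]
      ring
  simp only [hx, Finset.sum_add_distrib, Finset.sum_ite_eq', Finset.mem_univ, if_true,
    ← Finset.mul_sum]
  rw [Finset.sum_comm]
  simp only [sum_psi, sub_eq_zero]
  rw [← Finset.sum_filter, Finset.sum_const, nsmul_eq_mul, ← Fintype.card_subtype,
    ← Nat.card_eq_fintype_card]
  have hG : (Nat.card G : ℂ) = (q : ℂ) * ((q : ℂ) ^ 2 - 1) := by
    rw [Linear.card_SL_two, Nat.cast_mul, Nat.cast_mul, Nat.cast_sub Fintype.card_pos]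
    push_cast; ring
  have hU : (Nat.card Fˣ : ℂ) = (q : ℂ) - 1 := by
    rw [Nat.card_units, Nat.card_eq_fintype_card, Nat.cast_sub Fintype.card_pos]
    simp
  rw [hG, hU]
  have hq : (q : ℂ) ≠ 0 := by simp
  simp only [Nat.card_eq_fintype_card]
  field_simp
  ring

/-- The twisted identity: the sign at a central element `z ≠ 1` cancels everything. -/
theorem sum_sign_mult_mul [DecidableEq F] {z : G} (hz : z ∈ Subgroup.center G)
    (hz' : ∀ x y : F, ¬ IsConj (z * upper x) (upper y)) (ω : IrrCharacter G → ℤ)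
    (hω : ∀ (χ : IrrCharacter G) (g : G), (χ : G → ℂ) (z * g) = (ω χ : ℂ) * (χ : G → ℂ) g)
    (c d : F) : ∑ χ : IrrCharacter G, ω χ * ((mult χ c * mult χ d : ℕ) : ℤ) = 0 := by
  classical
  letI := Fintype.ofFinite G
  suffices h : ∑ χ : IrrCharacter G, (ω χ : ℂ) *
      (coef (χ : G → ℂ) c * conj (coef (χ : G → ℂ) d)) = 0 by
    simp only [mult_spec, map_natCast] at h
    exact_mod_cast h
  have hexp : ∀ χ : IrrCharacter G, (ω χ : ℂ) *
      (coef (χ : G → ℂ) c * conj (coef (χ : G → ℂ) d)) =
      ∑ x : F, ∑ y : F, (q : ℂ)⁻¹ * (q : ℂ)⁻¹ * psi F (-(c * x)) * psi F (d * y) *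
        ((χ : G → ℂ) (z * upper x) * conj ((χ : G → ℂ) (upper y))) := by
    intro χ
    simp only [coef, map_mul, map_sum, map_inv₀, map_natCast, conj_psi, neg_neg]
    rw [mul_mul_mul_comm, Finset.sum_mul_sum, Finset.mul_sum, Finset.mul_sum]
    refine Finset.sum_congr rfl fun x _ => ?_
    rw [Finset.mul_sum, Finset.mul_sum]
    refine Finset.sum_congr rfl fun y _ => ?_
    rw [hω]
    ring
  simp only [hexp]
  rw [Finset.sum_comm]
  refine Finset.sum_eq_zero fun x _ => ?_
  rw [Finset.sum_comm]
  refine Finset.sum_eq_zero fun y _ => ?_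
  rw [← Finset.mul_sum, Char.sum_irr_mul_conj, if_neg (hz' x y), mul_zero]

end Cfsg.Agent.SL2Char
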