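import Cfsg.Agent.SL2Char.Principal

/-!
# The trivial, Steinberg and principal series characters as a family
-/

set_option autoImplicit false
set_option linter.unusedSectionVars false

namespace Cfsg.Agent.SL2Char

open Cfsg
open scoped MatrixGroups

variable {F : Type*} [Field F] [Fintype F]

local notation "G" => SL(2, F)
local notation "q" => Fintype.card F

variable (F) in
/-- The trivial character. -/
noncomputable def chiOne : IrrCharacter G := ⟨fun _ => 1, Char.isIrrCharacter_const_one⟩

variable (F) in
/-- The Steinberg character. -/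
noncomputable def chiSt : IrrCharacter G := ⟨st F, st_irr⟩

open scoped Classical in
/-- The principal series character, as an element of the set of irreducible characters. -/
noncomputable def psI (α : MulChar F ℂ) : IrrCharacter G :=
  if h : α ≠ α⁻¹ then ⟨ps α, ps_irr h⟩ else chiOne F

theorem psI_val {α : MulChar F ℂ} (h : α ≠ α⁻¹) : (psI α : G → ℂ) = ps α := by
  simp only [psI, dif_pos h]

open scoped Classical in
variable (F) in
/-- The characters of the principal series. -/
noncomputable def psSet : Finset (IrrCharacter G) :=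
  letI := Fintype.ofFinite (MulChar F ℂ)
  (Finset.univ.filter fun α : MulChar F ℂ => α ≠ α⁻¹).image psI

theorem mem_psSet {χ : IrrCharacter G} :
    χ ∈ psSet F ↔ ∃ α : MulChar F ℂ, α ≠ α⁻¹ ∧ psI α = χ := by
  simp [psSet]

theorem mult_chiOne [DecidableEq F] (c : F) : mult (chiOne F) c = if c = 0 then 1 else 0 := by
  apply Nat.cast_injective (R := ℂ)
  rw [← mult_spec, chiOne, coef_one]
  split_ifs <;> simp

theorem mult_chiSt (c : F) : mult (chiSt F) c = 1 := by
  classical
  apply Nat.cast_injective (R := ℂ)
  rw [← mult_spec, chiSt]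
  simp only [st]
  rw [coef_sub, coef_ps, coef_one]
  split_ifs <;> norm_num

theorem mult_psSet [DecidableEq F] {χ : IrrCharacter G} (h : χ ∈ psSet F) (c : F) :
    mult χ c = if c = 0 then 2 else 1 := by
  obtain ⟨α, hα, rfl⟩ := mem_psSet.1 h
  apply Nat.cast_injective (R := ℂ)
  rw [← mult_spec, psI_val hα, coef_ps]
  split_ifs <;> simp

theorem chiOne_ne_chiSt : chiOne F ≠ chiSt F := by
  classical
  intro h
  have h1 := mult_chiOne (1 : F)
  rw [h, mult_chiSt, if_neg one_ne_zero] at h1
  exact one_ne_zero h1

theorem chiOne_notMem : chiOne F ∉ psSet F := by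
  classical
  intro h
  have h1 := mult_chiOne (0 : F)
  rw [mult_psSet h, if_pos rfl, if_pos rfl] at h1
  omega

theorem chiSt_notMem : chiSt F ∉ psSet F := by
  classical
  intro h
  have h1 := mult_chiSt (0 : F)
  rw [mult_psSet h, if_pos rfl] at h1
  omega

theorem psI_eq_iff {α β : MulChar F ℂ} (hα : α ≠ α⁻¹) (hβ : β ≠ β⁻¹) :
    psI α = psI β ↔ α = β ∨ α = β⁻¹ := by
  classical
  letI := Fintype.ofFinite G
  constructor
  · intro h
    have h2 : ps α = ps β := by rw [← psI_val hα, ← psI_val hβ, h]
    have h3 := classInner_ps α β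
    rw [h2, Char.classInner_irr_self (ps_irr hβ)] at h3
    by_contra hc
    rw [not_or] at hc
    rw [if_neg hc.1, if_neg hc.2, add_zero] at h3
    exact one_ne_zero h3
  · rintro (rfl | rfl)
    · rfl
    · by_contra hne
      have h3 := classInner_ps β⁻¹ β
      rw [if_neg (fun h => hβ h.symm), if_pos rfl, zero_add] at h3
      rw [← psI_val hα, ← psI_val hβ,
        Char.classInner_irr_ne (psI β⁻¹).2 (psI β).2 fun h => hne (Subtype.ext h)] at h3
      exact zero_ne_one h3

open scoped Classical in
theorem card_psSet :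
    2 * (psSet F).card + Nat.card {α : MulChar F ℂ // α = α⁻¹} + 1 = q := by
  letI := Fintype.ofFinite (MulChar F ℂ)
  set A := Finset.univ.filter fun α : MulChar F ℂ => α ≠ α⁻¹ with hA
  have hfib : ∀ χ ∈ psSet F, (A.filter fun α => psI α = χ).card = 2 := by
    intro χ hχ
    obtain ⟨α, hα, rfl⟩ := mem_psSet.1 hχ
    have hα' : α⁻¹ ≠ α⁻¹⁻¹ := by rw [inv_inv]; exact Ne.symm hα
    rw [show (A.filter fun β => psI β = psI α) = {α, α⁻¹} from ?_, Finset.card_pair hα]
    ext β
    simp only [hA, Finset.mem_filter, Finset.mem_univ, true_and, Finset.mem_insert,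
      Finset.mem_singleton]
    constructor
    · rintro ⟨hβ, h⟩
      exact (psI_eq_iff hβ hα).1 h
    · rintro (rfl | rfl)
      · exact ⟨hα, rfl⟩
      · exact ⟨hα', (psI_eq_iff hα' hα).2 (Or.inr rfl)⟩
  have h := Finset.card_eq_sum_card_fiberwise (f := psI) (s := A) (t := psSet F)
    fun α hα => mem_psSet.2 ⟨α, (Finset.mem_filter.1 hα).2, rfl⟩
  rw [Finset.sum_congr rfl hfib, Finset.sum_const, smul_eq_mul] at h
  have h2 := Finset.card_filter_add_card_filter_not (s := (Finset.univ : Finset (MulChar F ℂ)))
    (p := fun α => α ≠ α⁻¹)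
  rw [Finset.card_univ, ← hA, h, ← Nat.card_eq_fintype_card,
    MulChar.card_eq_card_units_of_hasEnoughRootsOfUnity, Nat.card_units,
    Nat.card_eq_fintype_card] at h2
  have h3 : Nat.card {α : MulChar F ℂ // α = α⁻¹} =
      (Finset.univ.filter fun α : MulChar F ℂ => ¬ α ≠ α⁻¹).card := by
    rw [Nat.card_eq_fintype_card, Fintype.card_subtype]
    simp
  have hq : 1 ≤ q := Fintype.card_pos
  omega

open scoped Classical in
variable (F) in
/-- The other irreducible characters. -/
noncomputable def rest : Finset (IrrCharacter G) :=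
  Finset.univ \ insert (chiOne F) (insert (chiSt F) (psSet F))

open scoped Classical in
theorem mem_rest {χ : IrrCharacter G} :
    χ ∈ rest F ↔ χ ≠ chiOne F ∧ χ ≠ chiSt F ∧ χ ∉ psSet F := by
  simp [rest]

theorem sum_split {M : Type*} [AddCommMonoid M] (f : IrrCharacter G → M) :
    ∑ χ, f χ = f (chiOne F) + f (chiSt F) + ∑ χ ∈ psSet F, f χ + ∑ χ ∈ rest F, f χ := by
  classical
  rw [rest, ← Finset.sum_sdiff (Finset.subset_univ (insert (chiOne F) (insert (chiSt F) (psSet F)))),
    Finset.sum_insert (by simp [chiOne_ne_chiSt, chiOne_notMem]),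
    Finset.sum_insert chiSt_notMem]
  abel

theorem card_rest :
    (rest F).card + (psSet F).card + 2 = Nat.card (ConjClasses G) := by
  classical
  have h := sum_split (F := F) (fun _ => 1)
  simp only [Finset.sum_const, smul_eq_mul, mul_one, Finset.card_univ] at h
  rw [← Char.card_irr_eq_card_conjClasses, Nat.card_eq_fintype_card, h]
  omega

end Cfsg.Agent.SL2Char
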