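import Cfsg.Agent.SL2Char.Family
import Cfsg.Agent.S2325

/-!
# The irreducible characters of `SL(2, q)`, `q` odd, sorted by their multiplicities on `U`

The element `ν` is any non-square of the field.  A character `χ` has the key
`(mult χ 0, mult χ 1 + mult χ ν)`: trivial `(1, 0)`, Steinberg `(1, 2)`, principal series
`(2, 2)`, the halves of the reducible principal series `(1, 1)`, and the cuspidal ones `(0, 1)`
(two of them) and `(0, 2)`.
-/

set_option autoImplicit false
set_option linter.unusedSectionVars false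

namespace Cfsg.Agent.SL2Char

open Cfsg
open Cfsg.Agent.CentralExt.SL2 (upper upperHom)
open scoped MatrixGroups

variable {F : Type*} [Field F] [Fintype F] {ν : F}

local notation "G" => SL(2, F)
local notation "q" => Fintype.card F

theorem two_ne_zero_of_nonsquare (hν : ¬ IsSquare ν) : (2 : F) ≠ 0 := by
  refine Ring.two_ne_zero fun e => hν ?_
  exact FiniteField.isSquare_of_char_two e ν

theorem ne_zero_of_nonsquare (hν : ¬ IsSquare ν) : ν ≠ 0 := fun h => hν (h ▸ ⟨0, (mul_zero 0).symm⟩)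

theorem odd_card_of_nonsquare (hν : ¬ IsSquare ν) : Odd q := by
  rw [← Nat.not_even_iff_odd]
  intro h
  exact hν (FiniteField.isSquare_of_char_two
    (FiniteField.even_card_iff_char_two.2 (Nat.even_iff.1 h)) ν)

theorem exists_sq_mul_or (hν : ¬ IsSquare ν) (c : F) (hc : c ≠ 0) :
    (∃ t : Fˣ, (t : F) ^ 2 * 1 = c) ∨ ∃ t : Fˣ, (t : F) ^ 2 * ν = c := by
  by_cases h : IsSquare c
  · obtain ⟨r, hr⟩ := h
    exact Or.inl ⟨Units.mk0 r fun h0 => hc (by rw [hr, h0, mul_zero]), by simp [hr, sq]⟩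
  · obtain ⟨r, hr⟩ :=
      Linear.Classes.isSquare_mul_of_nonsquare (two_ne_zero_of_nonsquare hν) h hν
    have hν0 := ne_zero_of_nonsquare hν
    refine Or.inr ⟨Units.mk0 (r / ν) (div_ne_zero (fun h0 => mul_ne_zero hc hν0
      (by rw [hr, h0, mul_zero])) hν0), ?_⟩
    simp only [Units.val_mk0]
    field_simp
    linear_combination -hr

theorem mult_pair (hν : ¬ IsSquare ν) (χ : IrrCharacter G) {c : F} (hc : c ≠ 0) :
    mult χ c + mult χ (ν * c) = mult χ 1 + mult χ ν := by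
  rcases exists_sq_mul_or hν c hc with ⟨t, rfl⟩ | ⟨t, rfl⟩
  · rw [show ν * ((t : F) ^ 2 * 1) = (t : F) ^ 2 * ν by ring, mult_sq_mul, mult_sq_mul]
  · rw [show ν * ((t : F) ^ 2 * ν) = ((t * Units.mk0 ν (ne_zero_of_nonsquare hν) : Fˣ) : F) ^ 2 * 1
      by push_cast; rw [Units.val_mk0]; ring, mult_sq_mul, mult_sq_mul, add_comm]

theorem charDegree_odd (hν : ¬ IsSquare ν) (χ : IrrCharacter G) :
    2 * charDegree (χ : G → ℂ) = 2 * mult χ 0 + (q - 1) * (mult χ 1 + mult χ ν) := by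
  classical
  rw [← sum_mult, ← Finset.add_sum_erase _ _ (Finset.mem_univ (0 : F)), mul_add, two_mul
    (∑ c ∈ Finset.univ.erase 0, mult χ c)]
  congr 1
  have hperm : ∑ c ∈ Finset.univ.erase (0 : F), mult χ c =
      ∑ c ∈ Finset.univ.erase (0 : F), mult χ (ν * c) := by
    refine (Finset.sum_equiv (Equiv.mulLeft₀ ν (ne_zero_of_nonsquare hν)) (fun c => ?_)
      (fun c _ => rfl)).symm
    simp [ne_zero_of_nonsquare hν]
  conv_lhs => arg 2; rw [hperm]
  rw [← Finset.sum_add_distrib,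
    Finset.sum_congr rfl fun c hc => mult_pair hν χ (Finset.ne_of_mem_erase hc), Finset.sum_const,
    Finset.card_erase_of_mem (Finset.mem_univ _), Finset.card_univ, smul_eq_mul]

theorem eq_of_self_inv (hν : ¬ IsSquare ν) {α β : MulChar F ℂ} (hα : α = α⁻¹) (hβ : β = β⁻¹)
    (h : α ν = β ν) : α = β := by
  have hsq : ∀ γ : MulChar F ℂ, γ = γ⁻¹ → ∀ t : Fˣ, γ ((t : F) ^ 2) = 1 := fun γ hγ t => by
    rw [map_pow, sq]
    calc γ t * γ t = (γ⁻¹ * γ) t := by rw [MulChar.mul_apply, ← hγ]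
      _ = 1 := by rw [inv_mul_cancel, MulChar.one_apply_coe]
  refine MulChar.ext fun a => ?_
  rcases exists_sq_mul_or hν (a : F) a.ne_zero with ⟨t, ht⟩ | ⟨t, ht⟩ <;>
    rw [← ht, map_mul, map_mul, hsq α hα, hsq β hβ]
  · simp
  · rw [h]

theorem self_inv_apply (hν : ¬ IsSquare ν) {α : MulChar F ℂ} (hα : α = α⁻¹) :
    α ν = 1 ∨ α ν = -1 := by
  have hν0 := ne_zero_of_nonsquare hν
  rw [← sq_eq_one_iff, sq]
  calc α ν * α ν = (α⁻¹ * α) ν := by rw [MulChar.mul_apply, ← hα]
    _ = 1 := by rw [inv_mul_cancel, MulChar.one_apply hν0.isUnit]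

theorem exists_quadratic (hν : ¬ IsSquare ν) :
    ∃ ε : MulChar F ℂ, ε ≠ 1 ∧ ε = ε⁻¹ ∧ ∀ α : MulChar F ℂ, α = α⁻¹ → α = 1 ∨ α = ε := by
  classical
  have hne : ringChar F ≠ 2 := fun e => hν (FiniteField.isSquare_of_char_two e ν)
  set ε : MulChar F ℂ := (quadraticChar F).ringHomComp (Int.castRingHom ℂ) with hε
  have h1 : ε ≠ 1 :=
    (MulChar.ringHomComp_ne_one_iff Int.cast_injective).2 (quadraticChar_ne_one hne)
  have h2 : ε = ε⁻¹ := (((quadraticChar_isQuadratic F).comp (Int.castRingHom ℂ)).inv).symm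
  refine ⟨ε, h1, h2, fun α hα => ?_⟩
  have hεν : ε ν = -1 := by
    rcases self_inv_apply hν h2 with h | h
    · exact absurd (eq_of_self_inv hν h2 inv_one.symm
        (h.trans (MulChar.one_apply (ne_zero_of_nonsquare hν).isUnit).symm)) h1
    · exact h
  rcases self_inv_apply hν hα with h | h
  · exact Or.inl (eq_of_self_inv hν hα inv_one.symm
      (h.trans (MulChar.one_apply (ne_zero_of_nonsquare hν).isUnit).symm))
  · exact Or.inr (eq_of_self_inv hν hα h2 (h.trans hεν.symm))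

theorem card_psSet_odd (hν : ¬ IsSquare ν) : 2 * (psSet F).card + 3 = q := by
  obtain ⟨ε, h1, h2, hall⟩ := exists_quadratic hν
  have h : Nat.card {α : MulChar F ℂ // α = α⁻¹} = 2 := by
    rw [Nat.card_eq_two_iff]
    refine ⟨⟨1, inv_one.symm⟩, ⟨ε, h2⟩, fun h => h1 (congrArg Subtype.val h).symm, ?_⟩
    ext α
    simp only [Set.mem_insert_iff, Set.mem_singleton_iff, Set.mem_univ, iff_true]
    exact (hall α.1 α.2).imp (fun h => Subtype.ext h) fun h => Subtype.ext h
  have := card_psSet (F := F)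
  omega

/-- A linear character with trivial coefficient one is trivial. -/
theorem eq_chiOne_of_degree_one {χ : IrrCharacter G} (h1 : charDegree (χ : G → ℂ) = 1)
    (h0 : mult χ 0 = 1) : χ = chiOne F := by
  classical
  have hone : (χ : G → ℂ) 1 = 1 := by rw [(Char.irr_charDegree_spec χ.2).2, h1, Nat.cast_one]
  refine Subtype.ext (eq_one_of_degree_one (Char.isCharacter_of_irr χ.2) hone fun x => ?_)
  obtain ⟨f, hf⟩ := Char.exists_monoidHom_of_degree_one (Char.isCharacter_of_irr χ.2) hone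
  have hsum : ∑ y : Multiplicative F, ((f.comp upperHom y : ℂˣ) : ℂ) = (q : ℂ) := by
    have h := mult_spec χ 0
    rw [h0, coef, Nat.cast_one] at h
    simp only [zero_mul, neg_zero, AddChar.map_zero_eq_one, mul_one] at h
    rw [inv_mul_eq_one₀ (by simp)] at h
    rw [h]
    refine (Fintype.sum_equiv Multiplicative.ofAdd _ _ fun y => ?_).symm
    rw [hf]; rfl
  have htriv : f.comp upperHom = 1 := by
    by_contra hne
    rw [Char.monoidHom_sum_eq_zero hne] at hsum
    exact Fintype.card_ne_zero (Nat.cast_eq_zero.1 hsum.symm)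
  have := DFunLike.congr_fun htriv (Multiplicative.ofAdd x)
  rw [hf]
  exact congrArg Units.val this

/-- The two halves of the reducible principal series. -/
theorem exists_halves (hν : ¬ IsSquare ν) :
    ∃ θ θ' : IrrCharacter G, θ ≠ θ' ∧ θ ∈ rest F ∧ θ' ∈ rest F ∧
      ∀ c : F, (c = 0 → mult θ c + mult θ' c = 2) ∧ (c ≠ 0 → mult θ c + mult θ' c = 1) := by
  classical
  letI := Fintype.ofFinite G
  obtain ⟨ε, h1, h2, -⟩ := exists_quadratic hν
  obtain ⟨m, hm, hmi⟩ := Char.isCharacter_exists_coeff (ps_isCharacter ε)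
  have hnorm : ∑ ψ, m ψ * m ψ = 2 := by
    have h := Char.classInner_eq_sum_mul_conj (b := ps ε)
      (Char.isCharacter_isClassFunction (ps_isCharacter ε))
    rw [classInner_ps, if_pos rfl, if_pos h2] at h
    simp only [hmi, map_natCast] at h
    norm_num at h
    exact_mod_cast h.symm
  have hle : ∀ ψ, m ψ ≤ 1 := by
    intro ψ
    have h := Finset.single_le_sum (f := fun φ => m φ * m φ) (fun φ _ => Nat.zero_le _)
      (Finset.mem_univ ψ)
    rw [hnorm] at h
    by_contra hc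
    have : 2 * 2 ≤ m ψ * m ψ := Nat.mul_le_mul (by omega) (by omega)
    omega
  have hS : (Finset.univ.filter fun ψ => m ψ = 1).card = 2 := by
    refine Eq.trans ?_ hnorm
    rw [Finset.card_filter]
    refine Finset.sum_congr rfl fun ψ _ => ?_
    have := hle ψ
    interval_cases m ψ <;> rfl
  obtain ⟨θ, θ', hne, hpair⟩ := Finset.card_eq_two.1 hS
  have hmem : ∀ ψ, m ψ = 1 ↔ ψ = θ ∨ ψ = θ' := fun ψ => by
    simpa using Finset.ext_iff.1 hpair ψ
  have hdec : ps ε = (θ : G → ℂ) + (θ' : G → ℂ) := by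
    rw [hm, ← Finset.sum_subset (Finset.subset_univ ({θ, θ'} : Finset (IrrCharacter G)))]
    · rw [Finset.sum_pair hne, (hmem θ).2 (Or.inl rfl), (hmem θ').2 (Or.inr rfl), one_smul,
        one_smul]
    · intro ψ _ hψ
      have := hle ψ
      have h' : m ψ ≠ 1 := fun h => hψ (by simpa using (hmem ψ).1 h)
      rw [show m ψ = 0 by omega, zero_smul]
  have hrest : ∀ ψ, m ψ = 1 → ψ ∈ rest F := by
    intro ψ hψ
    have hi : classInner (ps ε) (ψ : G → ℂ) = 1 := by rw [hmi, hψ, Nat.cast_one]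
    refine mem_rest.2 ⟨?_, ?_, ?_⟩
    · rintro rfl
      rw [chiOne, classInner_ps_const, if_neg h1] at hi
      exact zero_ne_one hi
    · rintro rfl
      simp only [chiSt, st] at hi
      rw [Char.classInner_sub_right, classInner_ps, classInner_ps_const, if_neg h1,
        if_neg (fun h => h1 (h.trans inv_one)), add_zero, sub_zero] at hi
      exact zero_ne_one hi
    · intro hp
      obtain ⟨α, hα, rfl⟩ := mem_psSet.1 hp
      rw [psI_val hα, classInner_ps, if_neg (fun h => hα (by rw [← h]; exact h2)),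
        if_neg (fun h => hα (by rw [← h, h2, h, inv_inv])), add_zero] at hi
      exact zero_ne_one hi
  refine ⟨θ, θ', hne, hrest θ ((hmem θ).2 (Or.inl rfl)), hrest θ' ((hmem θ').2 (Or.inr rfl)),
    fun c => ?_⟩
  have h := coef_ps ε c
  rw [hdec, coef_add, mult_spec, mult_spec] at h
  constructor <;> intro hc
  · rw [if_pos hc] at h; exact_mod_cast h
  · rw [if_neg hc] at h; exact_mod_cast h

open scoped Classical in
set_option maxHeartbeats 1000000 in
/-- Every remaining character has key `(1,1)`, `(0,1)` or `(0,2)`, with the numbers of each. -/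
theorem odd_data (hν : ¬ IsSquare ν) :
    ∃ H D W : Finset (IrrCharacter G),
      H.card = 2 ∧ D.card = 2 ∧ 2 * W.card + 1 = q ∧ H ∪ D ∪ W = rest F ∧
      (∀ χ ∈ H, mult χ 0 = 1 ∧ mult χ 1 + mult χ ν = 1) ∧
      (∀ χ ∈ D, mult χ 0 = 0 ∧ mult χ 1 + mult χ ν = 1) ∧
      (∀ χ ∈ W, mult χ 0 = 0 ∧ mult χ 1 = 1 ∧ mult χ ν = 1) := by
  classical
  have h2 := two_ne_zero_of_nonsquare hν
  have hν0 := ne_zero_of_nonsquare hν
  obtain ⟨θ, θ', hne, hθ, hθ', hsum⟩ := exists_halves hν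
  have hP := card_psSet_odd hν
  have hk := card_rest (F := F)
  rw [S2325.result (odd_card_of_nonsquare hν)] at hk
  set O := ((rest F).erase θ).erase θ' with hO
  have hsplit : ∀ f : IrrCharacter G → ℕ, ∑ χ ∈ rest F, f χ = f θ + f θ' + ∑ χ ∈ O, f χ := by
    intro f
    rw [← Finset.add_sum_erase _ _ hθ, ← Finset.add_sum_erase _ _
      (Finset.mem_erase.2 ⟨hne.symm, hθ'⟩), add_assoc]
  have hcardO : 2 * O.card = q + 3 := by
    rw [hO, Finset.card_erase_of_mem (Finset.mem_erase.2 ⟨hne.symm, hθ'⟩),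
      Finset.card_erase_of_mem hθ]
    omega
  have hN0 : Nat.card {t : Fˣ // (0 : F) * (t : F) ^ 2 = 0} = q - 1 := by
    rw [Nat.card_congr (Equiv.subtypeUnivEquiv fun t => by simp), Nat.card_units,
      Nat.card_eq_fintype_card]
  have hN1 : Nat.card {t : Fˣ // (1 : F) * (t : F) ^ 2 = 1} = 2 := by
    refine Eq.trans ?_ (Linear.Classes.card_sq_one_odd (F := F) h2)
    refine Nat.card_congr ⟨fun t => ⟨(t.1 : F), by simpa using t.2⟩, fun e => ⟨Units.mk0 e.1
      (fun h => by have := e.2; rw [h] at this; simp at this), by simpa using e.2⟩,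
      fun t => Subtype.ext (Units.ext rfl), fun e => rfl⟩
  have hNν : Nat.card {t : Fˣ // ν * (t : F) ^ 2 = ν} = 2 := by
    refine Eq.trans ?_ hN1
    exact Nat.card_congr (Equiv.subtypeEquivRight fun t => by simp [hν0])
  have hNm : Nat.card {t : Fˣ // ν * (t : F) ^ 2 = 1} = 0 := by
    haveI : IsEmpty {t : Fˣ // ν * (t : F) ^ 2 = 1} := ⟨fun t => hν ⟨((t.1 : F))⁻¹, by
      have := t.2
      field_simp
      linear_combination this⟩⟩
    exact Nat.card_of_isEmpty
  -- the four sums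
  have e00 : mult θ 0 * mult θ 0 + mult θ' 0 * mult θ' 0 + ∑ χ ∈ O, mult χ 0 * mult χ 0 = 2 := by
    have h := sum_mult_mul (F := F) 0 0
    rw [sum_split, mult_chiOne, mult_chiSt, Finset.sum_congr rfl (g := fun _ => 4) (fun χ hχ => by
      rw [mult_psSet hχ, if_pos rfl]), Finset.sum_const, smul_eq_mul, if_pos rfl, hsplit, hN0] at h
    obtain ⟨A, hA⟩ : ∃ A, mult θ 0 * mult θ 0 + mult θ' 0 * mult θ' 0 +
      ∑ χ ∈ O, mult χ 0 * mult χ 0 = A := ⟨_, rfl⟩
    rw [hA] at h ⊢
    push_cast at h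
    omega
  have eAA : ∀ c : F, c ≠ 0 → Nat.card {t : Fˣ // c * (t : F) ^ 2 = c} = 2 →
      mult θ c * mult θ c + mult θ' c * mult θ' c + ∑ χ ∈ O, mult χ c * mult χ c +
        (psSet F).card = q := by
    intro c hc hN
    have h := sum_mult_mul (F := F) c c
    rw [sum_split, mult_chiOne, mult_chiSt, Finset.sum_congr rfl (g := fun _ => 1) (fun χ hχ => by
      rw [mult_psSet hχ, if_neg hc]), Finset.sum_const, smul_eq_mul, if_neg hc, hsplit, hN] at h
    obtain ⟨A, hA⟩ : ∃ A, mult θ c * mult θ c + mult θ' c * mult θ' c +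
      ∑ χ ∈ O, mult χ c * mult χ c = A := ⟨_, rfl⟩
    rw [hA] at h ⊢
    push_cast at h
    omega
  have eAB : mult θ 1 * mult θ ν + mult θ' 1 * mult θ' ν + ∑ χ ∈ O, mult χ 1 * mult χ ν +
      (psSet F).card + 2 = q := by
    have h := sum_mult_mul (F := F) 1 ν
    rw [sum_split, mult_chiOne, mult_chiOne, mult_chiSt, mult_chiSt,
      Finset.sum_congr rfl (g := fun _ => 1) (fun χ hχ => by
        rw [mult_psSet hχ, mult_psSet hχ, if_neg one_ne_zero, if_neg hν0]),
      Finset.sum_const, smul_eq_mul, if_neg one_ne_zero, hsplit, hNm] at h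
    obtain ⟨A, hA⟩ : ∃ A, mult θ 1 * mult θ ν + mult θ' 1 * mult θ' ν +
      ∑ χ ∈ O, mult χ 1 * mult χ ν = A := ⟨_, rfl⟩
    rw [hA] at h ⊢
    push_cast at h
    omega
  -- the coefficient zero
  have s0 := (hsum 0).1 rfl
  have s1 := (hsum 1).2 one_ne_zero
  have sν := (hsum ν).2 hν0
  have hθ0 : mult θ 0 = 1 ∧ mult θ' 0 = 1 := by
    have : mult θ 0 ≤ 2 := by omega
    have e : mult θ' 0 = 2 - mult θ 0 := by omega
    rw [e] at e00 ⊢
    interval_cases mult θ 0 <;> omega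
  have hO0 : ∀ χ ∈ O, mult χ 0 = 0 := by
    rw [hθ0.1, hθ0.2] at e00
    have h0 : ∑ χ ∈ O, mult χ 0 * mult χ 0 = 0 := by omega
    exact fun χ hχ => mul_self_eq_zero.1 (Finset.sum_eq_zero_iff.1 h0 χ hχ)
  -- the halves
  have hθs : mult θ 1 + mult θ ν = 1 ∧ mult θ' 1 + mult θ' ν = 1 := by
    have hnot : ∀ χ : IrrCharacter G, χ ∈ rest F → mult χ 0 = 1 → mult χ 1 + mult χ ν ≠ 0 := by
      intro χ hχ h0 hs
      have hd := charDegree_odd hν χ
      rw [h0, hs] at hd
      exact (mem_rest.1 hχ).1 (eq_chiOne_of_degree_one (by omega) h0)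
    have := hnot θ hθ hθ0.1
    have := hnot θ' hθ' hθ0.2
    omega
  have hθp : mult θ 1 * mult θ ν = 0 ∧ mult θ' 1 * mult θ' ν = 0 := by
    constructor <;> rw [Nat.mul_eq_zero] <;> omega
  have hθq : ∀ c : F, mult θ c + mult θ' c = 1 →
      mult θ c * mult θ c + mult θ' c * mult θ' c = 1 := by
    intro c h
    have : mult θ c ≤ 1 := by omega
    have e : mult θ' c = 1 - mult θ c := by omega
    rw [e]
    interval_cases mult θ c <;> rfl
  have hA1 := eAA 1 one_ne_zero hN1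
  have hAν := eAA ν hν0 hNν
  rw [hθq 1 s1] at hA1
  rw [hθq ν sν] at hAν
  rw [hθp.1, hθp.2] at eAB
  -- the others
  let s : IrrCharacter G → ℤ := fun χ => (mult χ 1 : ℤ) + mult χ ν
  let d : IrrCharacter G → ℤ := fun χ => (mult χ 1 : ℤ) - mult χ ν
  have hdsum : ∑ χ ∈ O, d χ ^ 2 = 2 ∧ ∑ χ ∈ O, s χ ^ 2 = 2 * (q : ℤ) := by
    have e1 : ∀ χ, d χ ^ 2 = ((mult χ 1 * mult χ 1 : ℕ) : ℤ) + ((mult χ ν * mult χ ν : ℕ) : ℤ) -
        2 * ((mult χ 1 * mult χ ν : ℕ) : ℤ) := fun χ => by simp only [d]; push_cast; ring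
    have e2 : ∀ χ, s χ ^ 2 = ((mult χ 1 * mult χ 1 : ℕ) : ℤ) + ((mult χ ν * mult χ ν : ℕ) : ℤ) +
        2 * ((mult χ 1 * mult χ ν : ℕ) : ℤ) := fun χ => by simp only [s]; push_cast; ring
    simp only [e1, e2, Finset.sum_add_distrib, Finset.sum_sub_distrib, ← Finset.mul_sum,
      ← Nat.cast_sum]
    omega
  have hpos : ∀ χ ∈ O, 1 ≤ s χ := by
    intro χ hχ
    obtain ⟨n, hn, hn'⟩ := Char.irr_one_pos χ.2
    have hd := charDegree_odd hν χ
    rw [hO0 χ hχ, Char.charDegree_of_eq hn'] at hd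
    rcases Nat.eq_zero_or_pos (mult χ 1 + mult χ ν) with h | h
    · rw [h] at hd; omega
    · simp only [s]; omega
  set D := O.filter fun χ => d χ ≠ 0 with hD
  have hDle : D.card ≤ 2 := by
    have h : ∑ χ ∈ D, (1 : ℤ) ≤ ∑ χ ∈ O, d χ ^ 2 := by
      refine (Finset.sum_le_sum fun χ hχ => ?_).trans
        (Finset.sum_le_sum_of_subset_of_nonneg (Finset.filter_subset _ _) fun χ _ _ => sq_nonneg _)
      have h' := (Finset.mem_filter.1 hχ).2
      nlinarith [mul_self_pos.2 h']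
    rw [hdsum.1, Finset.sum_const, nsmul_one] at h
    exact_mod_cast h
  let low : IrrCharacter G → ℤ := fun χ => if d χ ≠ 0 then 1 else 4
  have hlow : ∀ χ ∈ O, low χ ≤ s χ ^ 2 := by
    intro χ hχ
    have h := hpos χ hχ
    simp only [low]
    split_ifs with hd
    · nlinarith
    · have he : s χ = 2 * (mult χ ν : ℤ) := by
        simp only [d, ne_eq, not_not] at hd; simp only [s]; omega
      have : 2 ≤ s χ := by omega
      nlinarith
  have hlowsum : ∑ χ ∈ O, low χ = 4 * (O.card : ℤ) - 3 * (D.card : ℤ) := by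
    simp only [low]
    rw [Finset.sum_ite, Finset.sum_const, Finset.sum_const, nsmul_one, ← hD]
    have := Finset.card_filter_add_card_filter_not (s := O) (p := fun χ => d χ ≠ 0)
    rw [← hD] at this
    rw [nsmul_eq_mul]
    omega
  have hDcard : D.card = 2 := by
    have h := Finset.sum_le_sum hlow
    rw [hlowsum, hdsum.2] at h
    omega
  have heq : ∀ χ ∈ O, low χ = s χ ^ 2 := by
    refine (Finset.sum_eq_sum_iff_of_le hlow).1 ?_
    rw [hlowsum, hdsum.2, hDcard]
    omega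
  refine ⟨{θ, θ'}, D, O.filter (fun χ => ¬ d χ ≠ 0), Finset.card_pair hne, hDcard, ?_, ?_,
    ?_, ?_, ?_⟩
  · have := Finset.card_filter_add_card_filter_not (s := O) (p := fun χ => d χ ≠ 0)
    rw [← hD, hDcard] at this
    omega
  · rw [Finset.union_assoc, hD, Finset.filter_union_filter_not_eq]
    ext χ
    simp only [hO, Finset.mem_union, Finset.mem_insert, Finset.mem_singleton, Finset.mem_erase]
    by_cases h1 : χ = θ
    · subst h1; simp [hθ]
    by_cases h3 : χ = θ'
    · subst h3; simp [hθ']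
    simp [h1, h3]
  · intro χ hχ
    rw [Finset.mem_insert, Finset.mem_singleton] at hχ
    rcases hχ with rfl | rfl
    exacts [⟨hθ0.1, hθs.1⟩, ⟨hθ0.2, hθs.2⟩]
  · intro χ hχ
    obtain ⟨hχO, hd⟩ := Finset.mem_filter.1 hχ
    refine ⟨hO0 χ hχO, ?_⟩
    have h := heq χ hχO
    simp only [low, if_pos hd] at h
    have h1 : s χ = 1 := by nlinarith [hpos χ hχO]
    simp only [s] at h1
    omega
  · intro χ hχ
    obtain ⟨hχO, hd⟩ := Finset.mem_filter.1 hχ
    refine ⟨hO0 χ hχO, ?_⟩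
    have h := heq χ hχO
    simp only [low, if_neg hd] at h
    have h1 : s χ = 2 := by nlinarith [hpos χ hχO]
    simp only [s] at h1
    simp only [d, ne_eq, not_not] at hd
    omega

end Cfsg.Agent.SL2Char
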