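import Cfsg.Agent.SL2Char.Odd

/-!
# The degrees of the irreducible characters of `SL(2, q)`, `q` odd
-/

set_option autoImplicit false
set_option linter.unusedSectionVars false

namespace Cfsg.Agent.SL2Char

open Cfsg
open scoped MatrixGroups

variable {F : Type*} [Field F] [Fintype F] {ν : F}

local notation "G" => SL(2, F)
local notation "q" => Fintype.card F

theorem charDegree_chiOne_odd (hν : ¬ IsSquare ν) :
    charDegree ((chiOne F : IrrCharacter G) : G → ℂ) = 1 := by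
  classical
  have h := charDegree_odd hν (chiOne F)
  rw [mult_chiOne, mult_chiOne, mult_chiOne, if_pos rfl, if_neg one_ne_zero,
    if_neg (ne_zero_of_nonsquare hν)] at h
  omega

theorem charDegree_chiSt_odd (hν : ¬ IsSquare ν) :
    charDegree ((chiSt F : IrrCharacter G) : G → ℂ) = q := by
  have h := charDegree_odd hν (chiSt F)
  rw [mult_chiSt, mult_chiSt, mult_chiSt] at h
  have hq : 1 ≤ q := Fintype.card_pos
  omega

theorem charDegree_psSet_odd (hν : ¬ IsSquare ν) {χ : IrrCharacter G} (h : χ ∈ psSet F) :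
    charDegree (χ : G → ℂ) = q + 1 := by
  classical
  have h' := charDegree_odd hν χ
  rw [mult_psSet h, mult_psSet h, mult_psSet h, if_pos rfl, if_neg one_ne_zero,
    if_neg (ne_zero_of_nonsquare hν)] at h'
  have hq : 1 ≤ q := Fintype.card_pos
  omega

/-- All irreducible characters, in six families. -/
theorem odd_classification (hν : ¬ IsSquare ν) :
    ∃ H D W : Finset (IrrCharacter G),
      H.card = 2 ∧ D.card = 2 ∧ 2 * W.card + 1 = q ∧
      (∀ χ ∈ H, χ ∈ rest F ∧ mult χ 0 = 1 ∧ mult χ 1 * mult χ ν = 0 ∧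
        2 * charDegree (χ : G → ℂ) = q + 1) ∧
      (∀ χ ∈ D, χ ∈ rest F ∧ mult χ 0 = 0 ∧ mult χ 1 * mult χ ν = 0 ∧
        2 * charDegree (χ : G → ℂ) = q - 1) ∧
      (∀ χ ∈ W, χ ∈ rest F ∧ mult χ 0 = 0 ∧ mult χ 1 * mult χ ν = 1 ∧
        charDegree (χ : G → ℂ) = q - 1) ∧
      (∀ χ : IrrCharacter G,
        χ = chiOne F ∨ χ = chiSt F ∨ χ ∈ psSet F ∨ χ ∈ H ∨ χ ∈ D ∨ χ ∈ W) := by
  classical
  obtain ⟨H, D, W, hH, hD, hW, hU, kH, kD, kW⟩ := odd_data hν
  have hq : 1 ≤ q := Fintype.card_pos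
  have hm : ∀ χ, χ ∈ H ∨ χ ∈ D ∨ χ ∈ W → χ ∈ rest F := fun χ h => by
    rw [← hU, Finset.mem_union, Finset.mem_union, or_assoc]; exact h
  refine ⟨H, D, W, hH, hD, hW, fun χ h => ?_, fun χ h => ?_, fun χ h => ?_, fun χ => ?_⟩
  · obtain ⟨h0, h1⟩ := kH χ h
    refine ⟨hm χ (Or.inl h), h0, by rw [Nat.mul_eq_zero]; omega, ?_⟩
    have hd := charDegree_odd hν χ
    rw [h0, h1] at hd
    omega
  · obtain ⟨h0, h1⟩ := kD χ h
    refine ⟨hm χ (Or.inr (Or.inl h)), h0, by rw [Nat.mul_eq_zero]; omega, ?_⟩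
    have hd := charDegree_odd hν χ
    rw [h0, h1] at hd
    omega
  · obtain ⟨h0, h1, h2⟩ := kW χ h
    refine ⟨hm χ (Or.inr (Or.inr h)), h0, by rw [h1, h2], ?_⟩
    have hd := charDegree_odd hν χ
    rw [h0, h1, h2] at hd
    omega
  · by_cases h1 : χ = chiOne F
    · exact Or.inl h1
    by_cases h2 : χ = chiSt F
    · exact Or.inr (Or.inl h2)
    by_cases h3 : χ ∈ psSet F
    · exact Or.inr (Or.inr (Or.inl h3))
    have h4 := mem_rest.2 ⟨h1, h2, h3⟩
    rw [← hU, Finset.mem_union, Finset.mem_union, or_assoc] at h4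
    exact Or.inr (Or.inr (Or.inr h4))

end Cfsg.Agent.SL2Char
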