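import Cfsg.Agent.SL2Char.Coeff
import Cfsg.Agent.S2432
import Cfsg.Agent.CharInd.Induced
import Cfsg.Agent.Linear.GLTwo

/-!
# The principal series of `SL(2, q)` and the linear characters
-/

set_option autoImplicit false
set_option linter.unusedSectionVars false

namespace Cfsg.Agent.SL2Char

open Cfsg
open Cfsg.Agent.CentralExt.SL2 (upper upperHom diag)
open Cfsg.Agent.Spec.Principal (borel lift mem_borel)
open scoped MatrixGroups ComplexConjugate

variable {F : Type*} [Field F] [Fintype F]

local notation "G" => SL(2, F)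
local notation "q" => Fintype.card F
local notation "M2" => Matrix (Fin 2) (Fin 2) F

/-- A character induced from the upper triangular subgroup. -/
noncomputable def ps (α : MulChar F ℂ) : G → ℂ :=
  letI := Fintype.ofFinite G
  Cfsg.indFun borel (lift α)

theorem ps_eq [hG : Fintype G] (α : MulChar F ℂ) : ps α = Cfsg.indFun borel (lift α) := by
  unfold ps
  rw [Subsingleton.elim (Fintype.ofFinite G) hG]

theorem classInner_ps [hG : Fintype G] (α β : MulChar F ℂ) [Decidable (α = β)] [Decidable (α = β⁻¹)] :
    classInner (ps α) (ps β) = (if α = β then 1 else 0) + (if α = β⁻¹ then 1 else 0) := by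
  classical
  simp only [ps_eq]
  rw [CharInd.classInner_indFun_left _ _ (CharInd.indFun_isClassFunction _ _)]
  exact S2432.inner_aux α β

theorem ps_isCharacter (α : MulChar F ℂ) : IsCharacter G (ps α) := by
  classical
  letI := Fintype.ofFinite G
  letI := Fintype.ofFinite (borel (F := F))
  let f : borel (F := F) →* ℂ :=
    { toFun := fun b => α (((b : G) : M2) 0 0)
      map_one' := by simp
      map_mul' := fun a b => by
        have hb := mem_borel.1 b.2
        simp [Matrix.mul_apply, Fin.sum_univ_two, hb] }
  exact CharInd.isCharacter_indFun _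
    (Char.isCharacter_of_irr (Char.isIrrCharacter_monoidHom f.toHomUnits))

/-- Values on the scalar translates of the unitriangular subgroup. -/
theorem ps_apply_scalar_upper [DecidableEq F] (α : MulChar F ℂ) {g : G} {e x : F}
    (hg : (g : M2) = !![e, x; 0, e]) :
    ps α g = α e * (if x = 0 then (q : ℂ) + 1 else 1) := by
  classical
  letI := Fintype.ofFinite G
  rw [ps, Spec.Principal.indFun_eq, hg]
  simp only [Matrix.cons_val', Matrix.cons_val_zero, Matrix.cons_val_one, Matrix.of_apply,
    Matrix.empty_val', Matrix.cons_val_fin_one, if_true]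
  split_ifs with hx
  · subst hx; simp; ring
  · rw [Finset.sum_eq_zero fun c _ => if_neg (by simp [hx])]; ring

theorem ps_one (α : MulChar F ℂ) : ps α (1 : G) = (q : ℂ) + 1 := by
  classical
  rw [ps_apply_scalar_upper α (e := 1) (x := 0)
    (by rw [Matrix.SpecialLinearGroup.coe_one, Matrix.one_fin_two])]
  simp

theorem ps_upper (α : MulChar F ℂ) {x : F} (hx : x ≠ 0) : ps α (upper x : G) = 1 := by
  classical
  rw [ps_apply_scalar_upper α (e := 1) (x := x) rfl, if_neg hx]
  simp

theorem coef_ps [DecidableEq F] (α : MulChar F ℂ) (c : F) :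
    coef (ps α) c = if c = 0 then 2 else 1 := by
  rw [coef_of_values (ps_one α) (fun x hx => ps_upper α hx)]
  have hq : (q : ℂ) ≠ 0 := by simp
  split_ifs <;> field_simp <;> ring

theorem coef_one [DecidableEq F] (c : F) :
    coef (fun _ : G => (1 : ℂ)) c = if c = 0 then 1 else 0 := by
  rw [coef_of_values (a := 1) (b := 1) rfl (fun _ _ => rfl), sub_self, mul_zero, zero_add]

theorem ps_irr {α : MulChar F ℂ} (hα : α ≠ α⁻¹) : IsIrrCharacter G (ps α) := by
  classical
  letI := Fintype.ofFinite G
  refine Char.isIrrCharacter_iff_classInner.2 ⟨ps_isCharacter α, ?_⟩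
  rw [classInner_ps, if_pos rfl, if_neg hα, add_zero]

theorem classInner_ps_const [hG : Fintype G] (α : MulChar F ℂ) [Decidable (α = 1)] :
    classInner (ps α) (fun _ : G => (1 : ℂ)) = if α = 1 then 1 else 0 := by
  classical
  simp only [ps_eq]
  rw [CharInd.classInner_indFun_left _ _ (fun _ _ => rfl)]
  unfold Cfsg.classInner
  rw [Nat.card_eq_fintype_card, ← Fintype.card_of_bijective (S2432.coords_bijective (F := F)),
    ← Fintype.sum_bijective _ S2432.coords_bijective _ _ (fun _ => rfl), Fintype.sum_prod_type]
  simp only [map_one, mul_one]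
  have hl : ∀ (a : Fˣ) (x : F), lift α (S2432.coords (a, x)) = α (a : F) := fun a x => rfl
  simp only [hl, Finset.sum_const, Finset.card_univ, nsmul_eq_mul, ← Finset.mul_sum,
    S2432.sum_units_mulChar, Fintype.card_prod, Nat.cast_mul]
  split_ifs
  · field_simp
  · simp

variable (F) in
/-- The Steinberg character. -/
noncomputable def st : G → ℂ := ps (1 : MulChar F ℂ) - fun _ => 1

theorem st_irr : IsIrrCharacter G (st F) := by
  classical
  letI := Fintype.ofFinite G
  have hgen : IsGeneralizedCharacter G (st F) :=
    Char.isGeneralizedCharacter_sub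
      (Char.isGeneralizedCharacter_of_isCharacter (ps_isCharacter 1))
      (Char.isGeneralizedCharacter_of_irr Char.isIrrCharacter_const_one)
  have hself : classInner (ps (1 : MulChar F ℂ)) (ps 1) = 2 := by
    rw [classInner_ps, if_pos rfl, if_pos inv_one.symm]; norm_num
  have hc : classInner (ps (1 : MulChar F ℂ)) (fun _ : G => (1 : ℂ)) = 1 := by
    rw [classInner_ps_const, if_pos rfl]
  have hc' : classInner (fun _ : G => (1 : ℂ)) (ps (1 : MulChar F ℂ)) = 1 := by
    rw [← Char.classInner_conj, hc, map_one]
  have hnorm : classInner (st F) (st F) = 1 := by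
    simp only [st, Char.classInner_sub_left, Char.classInner_sub_right, hself, hc, hc',
      Char.classInner_irr_self Char.isIrrCharacter_const_one]
    norm_num
  rcases Char.generalized_norm_one hgen hnorm with h | h
  · exact h
  · exfalso
    obtain ⟨n, hn, hn'⟩ := Char.irr_one_pos h
    rw [Pi.neg_apply, st, Pi.sub_apply, ps_one, add_sub_cancel_right] at hn'
    have h2 : ((n + q : ℕ) : ℂ) = 0 := by push_cast; rw [← hn']; ring
    have h3 := Nat.cast_eq_zero.1 h2
    omega

/-- A linear character which is trivial on the unitriangular subgroup is trivial. -/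
theorem eq_one_of_degree_one {χ : G → ℂ} (hχ : IsCharacter G χ) (h1 : χ 1 = 1)
    (hU : ∀ x : F, χ (upper x) = 1) : χ = fun _ => 1 := by
  obtain ⟨f, hf⟩ := Char.exists_monoidHom_of_degree_one hχ h1
  have hker : Linear.upperSL ≤ f.ker := by
    intro g hg
    obtain ⟨h10, h00, h11⟩ := Linear.mem_upperSL.1 hg
    have hgu : g = upper ((g : M2) 0 1) := by
      apply Subtype.ext
      ext i j
      fin_cases i <;> fin_cases j <;> simp [upper, h10, h00, h11]
    rw [MonoidHom.mem_ker, hgu]
    exact Units.ext (by rw [← hf, hU, Units.val_one])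
  have htop : f.ker = ⊤ := by
    rw [eq_top_iff, ← Linear.upperSL_sup_conj_eq_top (g := CentralExt.SL2.weyl)
      (show ((CentralExt.SL2.weyl : G) : M2) 1 0 ≠ 0 by simp [CentralExt.SL2.weyl])]
    refine sup_le hker ?_
    rintro _ ⟨g, hg, rfl⟩
    simp [MonoidHom.mem_ker, (MonoidHom.mem_ker).1 (hker hg)]
  funext g
  rw [hf, (MonoidHom.mem_ker).1 (htop ▸ Subgroup.mem_top g : g ∈ f.ker), Units.val_one]

end Cfsg.Agent.SL2Char
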